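import Mathlib

/-! Finite sets of points of projective three-space with the Cayley–Bacharach property. -/

namespace Groth.Agent.CayBach15

open MvPolynomial
open scoped Classical

universe u
variable {k : Type u} [Field k]

/-- points -/
abbrev Pt (k : Type u) [Field k] := Projectivization k (Fin 4 → k)

/-- the Cayley–Bacharach property -/
def CB (n : ℕ) (Z : Finset (Pt k)) : Prop :=
  ∀ z ∈ Z, ∀ p : MvPolynomial (Fin 4) k, p.IsHomogeneous n →
    (∀ z' ∈ Z, z' ≠ z → eval z'.rep p = 0) → eval z.rep p = 0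

/-- a linear functional as a form -/
noncomputable def lin (φ : (Fin 4 → k) →ₗ[k] k) : MvPolynomial (Fin 4) k := ∑ i, C (φ (Pi.single i 1)) * X i

theorem lin_hom (φ : (Fin 4 → k) →ₗ[k] k) : (lin φ).IsHomogeneous 1 :=
  IsHomogeneous.sum _ _ _ fun i _ => isHomogeneous_C_mul_X _ i

theorem eval_lin (φ : (Fin 4 → k) →ₗ[k] k) (v : Fin 4 → k) : eval v (lin φ) = φ v := by
  conv_rhs => rw [pi_eq_sum_univ' v]
  simp [lin, map_sum, mul_comm]

theorem le_iff (z : Pt k) (W : Submodule k (Fin 4 → k)) : z.submodule ≤ W ↔ z.rep ∈ W := by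
  rw [Projectivization.submodule_eq, Submodule.span_singleton_le_iff_mem]

/-- the points in a subspace -/
noncomputable def inW (Z : Finset (Pt k)) (W : Submodule k (Fin 4 → k)) : Finset (Pt k) := Z.filter fun z => z.rep ∈ W

theorem CB.diff {n : ℕ} {Z : Finset (Pt k)} (h : CB (n + 1) Z) (φ : (Fin 4 → k) →ₗ[k] k) :
    CB n (Z.filter fun z => φ z.rep ≠ 0) := by
  intro z hz p hp hv
  obtain ⟨hzZ, hzφ⟩ := Finset.mem_filter.1 hz
  have := h z hzZ (p * lin φ) (hp.mul (lin_hom φ)) fun z' hz' hne => by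
    rw [map_mul, eval_lin]
    by_cases hφ : φ z'.rep = 0
    · rw [hφ, mul_zero]
    · rw [hv z' (Finset.mem_filter.2 ⟨hz', hφ⟩) hne, zero_mul]
  rw [map_mul, eval_lin] at this
  exact (mul_eq_zero.1 this).resolve_right hzφ

theorem exists_sep {W : Submodule k (Fin 4 → k)} {v : Fin 4 → k} (h : v ∉ W) :
    ∃ φ : (Fin 4 → k) →ₗ[k] k, φ v ≠ 0 ∧ ∀ w ∈ W, φ w = 0 := by
  obtain ⟨φ, h1, h2⟩ := W.exists_dual_map_eq_bot_of_notMem h inferInstance
  exact ⟨φ, h1, fun w hw => by
    have : φ w ∈ W.map φ := ⟨w, hw, rfl⟩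
    rwa [h2, Submodule.mem_bot] at this⟩

theorem not_mem_span {z z' : Pt k} (h : z ≠ z') : z.rep ∉ Submodule.span k {z'.rep} := fun hm => by
  obtain ⟨c, hc⟩ := Submodule.mem_span_singleton.1 hm
  apply h
  rw [← Projectivization.mk_rep z, ← Projectivization.mk_rep z', Projectivization.mk_eq_mk_iff']
  exact ⟨c, hc⟩

theorem span_pair {z z' : Pt k} (h : z ≠ z') :
    Module.finrank k ↥(Submodule.span k ({z'.rep} : Set (Fin 4 → k)) ⊔ Submodule.span k {z.rep}) = 2 := by
  rw [Submodule.finrank_sup_span_singleton (not_mem_span h), finrank_span_singleton (Projectivization.rep_nonzero _)]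

theorem lower {n : ℕ} {Z : Finset (Pt k)} (h : CB n Z) (hZ : Z.Nonempty) : n + 2 ≤ Z.card := by
  obtain ⟨z, hz⟩ := hZ
  by_contra hc
  have hcard : (Z.erase z).card ≤ n := by rw [Finset.card_erase_of_mem hz]; omega
  choose φ hφ1 hφ2 using fun z' : ↥(Z.erase z) =>
    exists_sep (not_mem_span (Finset.mem_erase.1 z'.2).1.symm)
  obtain ⟨ψ, hψ, -⟩ := exists_sep (W := ⊥) (v := z.rep) (by simpa using Projectivization.rep_nonzero z)
  let p : MvPolynomial (Fin 4) k := (∏ z', lin (φ z')) * lin ψ ^ (n - (Z.erase z).card)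
  have hp : p.IsHomogeneous n := by
    have h1 := IsHomogeneous.prod Finset.univ (fun z' => lin (φ z')) (fun _ => 1) (fun z' _ => lin_hom (φ z'))
    have h2 := h1.mul ((lin_hom ψ).pow (n - (Z.erase z).card))
    convert h2 using 1
    simp [Fintype.card_coe]; omega
  have := h z hz p hp fun z' hz' hne => by
    simp only [p, map_mul, map_prod]
    refine mul_eq_zero_of_left (Finset.prod_eq_zero (Finset.mem_univ ⟨z', Finset.mem_erase.2 ⟨hne, hz'⟩⟩) ?_) _
    rw [eval_lin]
    exact hφ2 _ _ (Submodule.mem_span_singleton_self _)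
  simp only [p, map_mul, map_prod, map_pow, eval_lin, mul_eq_zero, pow_eq_zero_iff', Finset.prod_eq_zero_iff] at this
  rcases this with ⟨z', -, h'⟩ | ⟨h', -⟩
  · exact hφ1 z' h'
  · exact hψ h'

theorem exists_avoid [Infinite k] (W : Submodule k (Fin 4 → k)) (S : Finset (Pt k)) (hS : ∀ z ∈ S, z.rep ∉ W) :
    ∃ φ : (Fin 4 → k) →ₗ[k] k, (∀ w ∈ W, φ w = 0) ∧ ∀ z ∈ S, φ z.rep ≠ 0 := by
  induction S using Finset.induction_on with
  | empty => exact ⟨0, fun _ _ => rfl, by simp⟩
  | insert z S hz ih =>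
    obtain ⟨φ, hφ1, hφ2⟩ := ih fun y hy => hS y (Finset.mem_insert_of_mem hy)
    obtain ⟨ψ, hψ1, hψ2⟩ := exists_sep (hS z (Finset.mem_insert_self z S))
    obtain ⟨t, ht⟩ := Infinite.exists_notMem_finset ((insert z S).image fun y => -φ y.rep / ψ y.rep)
    refine ⟨φ + t • ψ, fun w hw => by simp [hφ1 w hw, hψ2 w hw], fun y hy h0 => ?_⟩
    simp only [LinearMap.add_apply, LinearMap.smul_apply, smul_eq_mul] at h0
    by_cases hψy : ψ y.rep = 0
    · rcases Finset.mem_insert.1 hy with rfl | hy'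
      · exact hψ1 hψy
      · rw [hψy, mul_zero, add_zero] at h0
        exact hφ2 y hy' h0
    · refine ht (Finset.mem_image.2 ⟨y, hy, ?_⟩)
      field_simp
      linear_combination -h0

theorem CB.diff_subspace [Infinite k] {n : ℕ} {Z : Finset (Pt k)} (h : CB (n + 1) Z) (W : Submodule k (Fin 4 → k)) :
    CB n (Z.filter fun z => z.rep ∉ W) := by
  obtain ⟨φ, h1, h2⟩ := exists_avoid W (Z.filter fun z => z.rep ∉ W) (fun z hz => (Finset.mem_filter.1 hz).2)
  have e : (Z.filter fun z => z.rep ∉ W) = Z.filter fun z => φ z.rep ≠ 0 := Finset.ext fun z => by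
    simp only [Finset.mem_filter]
    exact ⟨fun hz => ⟨hz.1, h2 z (Finset.mem_filter.2 hz)⟩, fun hz => ⟨hz.1, fun hm => hz.2 (h1 _ hm)⟩⟩
  rw [e]
  exact h.diff φ

/-- the points outside a subspace -/
noncomputable def outW (Z : Finset (Pt k)) (W : Submodule k (Fin 4 → k)) : Finset (Pt k) := Z.filter fun z => z.rep ∉ W

theorem card_split (Z : Finset (Pt k)) (W : Submodule k (Fin 4 → k)) : (inW Z W).card + (outW Z W).card = Z.card :=
  Finset.card_filter_add_card_filter_not _

theorem exists_ge (W : Submodule k (Fin 4 → k)) {m : ℕ} (h : Module.finrank k W ≤ m) (hm : m ≤ 4) :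
    ∃ W', W ≤ W' ∧ Module.finrank k ↥W' = m := by
  obtain ⟨j, rfl⟩ := Nat.exists_eq_add_of_le h
  induction j with
  | zero => exact ⟨W, le_rfl, rfl⟩
  | succ j ih =>
    obtain ⟨W', hle, hW'⟩ := ih (by omega) (by omega)
    obtain ⟨v, -, hv⟩ : ∃ v ∈ (⊤ : Submodule k (Fin 4 → k)), v ∉ W' := SetLike.not_le_iff_exists.1 fun hh => by
      have := Submodule.finrank_mono hh
      rw [finrank_top, Module.finrank_fin_fun] at this
      omega
    exact ⟨W' ⊔ Submodule.span k {v}, hle.trans le_sup_left, by rw [Submodule.finrank_sup_span_singleton hv, hW']; omega⟩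

theorem exists_max (Z : Finset (Pt k)) (m : ℕ) (hm : m ≤ 4) :
    ∃ W : Submodule k (Fin 4 → k), Module.finrank k ↥W = m ∧
      ∀ W' : Submodule k (Fin 4 → k), Module.finrank k ↥W' = m → (inW Z W').card ≤ (inW Z W).card := by
  let T := (Finset.range (Z.card + 1)).filter fun c =>
    ∃ W : Submodule k (Fin 4 → k), Module.finrank k ↥W = m ∧ (inW Z W).card = c
  have hmem : ∀ W : Submodule k (Fin 4 → k), Module.finrank k ↥W = m → (inW Z W).card ∈ T := fun W hW =>
    Finset.mem_filter.2 ⟨Finset.mem_range.2 (Nat.lt_succ_of_le (Finset.card_filter_le _ _)), W, hW, rfl⟩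
  obtain ⟨W₀, -, hW₀⟩ := exists_ge (⊥ : Submodule k (Fin 4 → k)) (m := m) (by simp) hm
  obtain ⟨W, hW, hc⟩ := (Finset.mem_filter.1 (T.max'_mem ⟨_, hmem W₀ hW₀⟩)).2
  exact ⟨W, hW, fun W' hW' => hc ▸ T.le_max' _ (hmem W' hW')⟩

theorem exists_line_two (Z : Finset (Pt k)) (h : 2 ≤ Z.card) :
    ∃ W : Submodule k (Fin 4 → k), Module.finrank k ↥W = 2 ∧ 2 ≤ (inW Z W).card := by
  obtain ⟨z, hz, z', hz', hne⟩ := Finset.one_lt_card.1 h
  refine ⟨_, span_pair hne, ?_⟩
  refine le_trans (by rw [Finset.card_pair hne]) (Finset.card_le_card (s := {z, z'}) ?_)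
  intro x hx
  rcases Finset.mem_insert.1 hx with rfl | hx
  · exact Finset.mem_filter.2 ⟨hz, Submodule.mem_sup_right (Submodule.mem_span_singleton_self _)⟩
  · rw [Finset.mem_singleton] at hx; subst hx
    exact Finset.mem_filter.2 ⟨hz', Submodule.mem_sup_left (Submodule.mem_span_singleton_self _)⟩

theorem collinear [Infinite k] : ∀ (n : ℕ) (Z : Finset (Pt k)), CB n Z → Z.card ≤ 2 * n + 1 →
    ∃ W : Submodule k (Fin 4 → k), Module.finrank k ↥W = 2 ∧ ∀ z ∈ Z, z.rep ∈ W := by
  intro n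
  induction n with
  | zero =>
    intro Z h hc
    rcases Z.eq_empty_or_nonempty with rfl | hne
    · obtain ⟨W, -, hW⟩ := exists_ge (⊥ : Submodule k (Fin 4 → k)) (m := 2) (by simp) (by norm_num)
      exact ⟨W, hW, by simp⟩
    · have := lower h hne; omega
  | succ n ih =>
    intro Z h hc
    rcases Z.eq_empty_or_nonempty with rfl | hne
    · obtain ⟨W, -, hW⟩ := exists_ge (⊥ : Submodule k (Fin 4 → k)) (m := 2) (by simp) (by norm_num)
      exact ⟨W, hW, by simp⟩
    have hlow := lower h hne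
    obtain ⟨W, hW, hmax⟩ := exists_max Z 2 (by norm_num)
    obtain ⟨W₂, hW₂, h2⟩ := exists_line_two Z (by omega)
    have := hmax W₂ hW₂
    have hsplit := card_split Z W
    have hR := h.diff_subspace W
    rcases (outW Z W).eq_empty_or_nonempty with he | hne'
    · exact ⟨W, hW, fun z hz => by_contra fun hn => Finset.eq_empty_iff_forall_notMem.1 he z (Finset.mem_filter.2 ⟨hz, hn⟩)⟩
    obtain ⟨W', hW', hall⟩ := ih (outW Z W) hR (by omega)
    have h3 := lower hR hne'
    have h3' : n + 2 ≤ (outW Z W).card := h3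
    have h4 : (outW Z W).card ≤ (inW Z W').card :=
      Finset.card_le_card fun z hz => Finset.mem_filter.2 ⟨(Finset.mem_filter.1 hz).1, hall z hz⟩
    have := hmax W' hW'
    omega

theorem planar_or_skew [Infinite k] : ∀ (n : ℕ) (Z : Finset (Pt k)), CB n Z → Z.card ≤ 3 * n + 1 →
    (∃ W : Submodule k (Fin 4 → k), Module.finrank k ↥W = 3 ∧ ∀ z ∈ Z, z.rep ∈ W) ∨
      ∃ W₁ W₂ : Submodule k (Fin 4 → k), Module.finrank k ↥W₁ = 2 ∧ Module.finrank k ↥W₂ = 2 ∧ W₁ ⊓ W₂ = ⊥ ∧
        (∀ z ∈ Z, z.rep ∈ W₁ ∨ z.rep ∈ W₂) ∧ n + 2 ≤ (inW Z W₁).card ∧ n + 2 ≤ (inW Z W₂).card := by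
  intro n
  induction n with
  | zero =>
    intro Z h hc
    rcases Z.eq_empty_or_nonempty with rfl | hne
    · obtain ⟨W, -, hW⟩ := exists_ge (⊥ : Submodule k (Fin 4 → k)) (m := 3) (by simp) (by norm_num)
      exact Or.inl ⟨W, hW, by simp⟩
    · have := lower h hne; omega
  | succ n ih =>
    intro Z h hc
    obtain ⟨H, hH, hmax⟩ := exists_max Z 3 (by norm_num)
    have planar : ∀ M : Submodule k (Fin 4 → k), Module.finrank k ↥M ≤ 3 → (∀ z ∈ Z, z.rep ∈ M) →
        ∃ W : Submodule k (Fin 4 → k), Module.finrank k ↥W = 3 ∧ ∀ z ∈ Z, z.rep ∈ W := fun M hM hall => by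
      obtain ⟨W, hle, hW⟩ := exists_ge M hM (by norm_num)
      exact ⟨W, hW, fun z hz => hle (hall z hz)⟩
    by_cases hall : ∀ z ∈ Z, z.rep ∈ H
    · exact Or.inl ⟨H, hH, hall⟩
    have hge : ∀ (L : Submodule k (Fin 4 → k)) (z : Pt k) (S : Finset (Pt k)), Module.finrank k ↥L = 2 → z ∈ Z →
        z.rep ∉ L → S ⊆ Z → (∀ x ∈ S, x.rep ∈ L) → S.card + 1 ≤ (inW Z H).card := by
      intro L z S hL hz hzL hS hSL
      refine le_trans ?_ (hmax (L ⊔ Submodule.span k {z.rep}) (by rw [Submodule.finrank_sup_span_singleton hzL, hL]))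
      rw [← Finset.card_insert_of_notMem (s := S) (a := z) (fun hm => hzL (hSL z hm))]
      refine Finset.card_le_card fun x hx => Finset.mem_filter.2 ?_
      rcases Finset.mem_insert.1 hx with rfl | hx
      · exact ⟨hz, Submodule.mem_sup_right (Submodule.mem_span_singleton_self _)⟩
      · exact ⟨hS hx, Submodule.mem_sup_left (hSL x hx)⟩
    have h3 : 3 ≤ (inW Z H).card := by
      by_contra hlt
      obtain ⟨z₀, hz₀, hz₀H⟩ := by push Not at hall; exact hall
      rcases Nat.lt_or_ge Z.card 2 with hc2 | hc2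
      · have := lower h ⟨z₀, hz₀⟩; omega
      · obtain ⟨W₂, hW₂, h2⟩ := exists_line_two Z hc2
        by_cases hz : ∀ z ∈ Z, z.rep ∈ W₂
        · have hlow := lower h ⟨z₀, hz₀⟩
          obtain ⟨W₃, hle, hW₃⟩ := exists_ge W₂ (m := 3) (by omega) (by norm_num)
          have := hmax W₃ hW₃
          have e : inW Z W₃ = Z := Finset.filter_true_of_mem fun z hzZ => hle (hz z hzZ)
          rw [e] at this
          omega
        · push Not at hz
          obtain ⟨z, hzZ, hzW⟩ := hz
          have := hge W₂ z (inW Z W₂) hW₂ hzZ hzW (Finset.filter_subset _ _) fun x hx => (Finset.mem_filter.1 hx).2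
          omega
    have hsplit := card_split Z H
    have hR := h.diff_subspace H
    have hRne : (outW Z H).Nonempty := by
      push Not at hall
      obtain ⟨z, hz, hzH⟩ := hall
      exact ⟨z, Finset.mem_filter.2 ⟨hz, hzH⟩⟩
    obtain ⟨z₁, hz₁⟩ : (inW Z H).Nonempty := Finset.card_pos.1 (by omega)
    have hRlow : n + 2 ≤ (outW Z H).card := lower hR hRne
    rcases ih (outW Z H) hR (by omega) with ⟨W, hW, hWall⟩ | ⟨A, B, hA, hB, hAB, hABall, hAc, hBc⟩
    swap
    · exfalso
      have hdisj : Disjoint (inW (outW Z H) A) (inW (outW Z H) B) := Finset.disjoint_left.2 fun x hx hx' =>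
        Projectivization.rep_nonzero x (by
          simpa [hAB] using (Submodule.mem_inf.2 ⟨(Finset.mem_filter.1 hx).2, (Finset.mem_filter.1 hx').2⟩ : x.rep ∈ A ⊓ B))
      have h2 := Finset.card_union_of_disjoint hdisj
      have h3' : (inW (outW Z H) A ∪ inW (outW Z H) B).card ≤ (outW Z H).card :=
        Finset.card_le_card (Finset.union_subset (Finset.filter_subset _ _) (Finset.filter_subset _ _))
      have hsub : inW (outW Z H) A ⊆ Z := (Finset.filter_subset _ _).trans (Finset.filter_subset _ _)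
      by_cases hz : z₁.rep ∈ A
      · obtain ⟨x, hx⟩ : (inW (outW Z H) B).Nonempty := Finset.card_pos.1 (by omega)
        have := hge A x (inW (outW Z H) A) hA (Finset.mem_filter.1 (Finset.mem_filter.1 hx).1).1
          (fun hm => Finset.disjoint_left.1 hdisj (Finset.mem_filter.2 ⟨(Finset.mem_filter.1 hx).1, hm⟩) hx)
          hsub fun y hy => (Finset.mem_filter.1 hy).2
        omega
      · have := hge A z₁ (inW (outW Z H) A) hA (Finset.mem_filter.1 hz₁).1 hz hsub fun y hy => (Finset.mem_filter.1 hy).2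
        omega
    have hRH : (outW Z H).card ≤ (inW Z H).card :=
      le_trans (Finset.card_le_card fun z hz => Finset.mem_filter.2 ⟨(Finset.mem_filter.1 hz).1, hWall z hz⟩) (hmax W hW)
    obtain ⟨L, hL, hLall⟩ := collinear n (outW Z H) hR (by omega)
    by_cases hL' : ∀ z ∈ Z, z.rep ∈ L
    · exact Or.inl (planar L (by omega) hL')
    push Not at hL'
    obtain ⟨z, hz, hzL⟩ := hL'
    set P := L ⊔ Submodule.span k {z.rep} with hP
    have hPd : Module.finrank k ↥P = 3 := by rw [hP, Submodule.finrank_sup_span_singleton hzL, hL]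
    have hzR : z ∉ outW Z H := fun hm => hzL (hLall z hm)
    have hPc : n + 3 ≤ (inW Z P).card := by
      refine le_trans ?_ (Finset.card_le_card (s := insert z (outW Z H)) fun x hx => Finset.mem_filter.2 ?_)
      · rw [Finset.card_insert_of_notMem hzR]; omega
      · rcases Finset.mem_insert.1 hx with rfl | hx
        · exact ⟨hz, Submodule.mem_sup_right (Submodule.mem_span_singleton_self _)⟩
        · exact ⟨(Finset.mem_filter.1 hx).1, Submodule.mem_sup_left (hLall x hx)⟩
    have hsplit2 := card_split Z P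
    have hR2 := h.diff_subspace P
    rcases (outW Z P).eq_empty_or_nonempty with he | hne2
    · exact Or.inl ⟨P, hPd, fun x hx => by_contra fun hn =>
        Finset.eq_empty_iff_forall_notMem.1 he x (Finset.mem_filter.2 ⟨hx, hn⟩)⟩
    have hlow2 : n + 2 ≤ (outW Z P).card := lower hR2 hne2
    obtain ⟨L', hL'd, hL'all⟩ := collinear n (outW Z P) hR2 (by omega)
    have hdisj : Disjoint (outW Z H) (outW Z P) := Finset.disjoint_left.2 fun x hx hx' =>
      (Finset.mem_filter.1 hx').2 (Submodule.mem_sup_left (hLall x hx))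
    have hsub : outW Z H ∪ outW Z P ⊆ inW Z (L ⊔ L') := Finset.union_subset
      (fun x hx => Finset.mem_filter.2 ⟨(Finset.mem_filter.1 hx).1, Submodule.mem_sup_left (hLall x hx)⟩)
      (fun x hx => Finset.mem_filter.2 ⟨(Finset.mem_filter.1 hx).1, Submodule.mem_sup_right (hL'all x hx)⟩)
    by_cases hskew : L ⊓ L' = ⊥
    swap
    · refine Or.inl (planar (L ⊔ L') ?_ fun x hx => ?_)
      · have h' := Submodule.finrank_sup_add_finrank_inf_eq L L'
        have : 1 ≤ Module.finrank k ↥(L ⊓ L') := Submodule.one_le_finrank_iff.2 hskew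
        omega
      · by_contra hn
        have h1 : n + 2 ≤ (outW Z (L ⊔ L')).card :=
          lower (h.diff_subspace (L ⊔ L')) ⟨x, Finset.mem_filter.2 ⟨hx, hn⟩⟩
        have h2 := Finset.card_le_card hsub
        rw [Finset.card_union_of_disjoint hdisj] at h2
        have := card_split Z (L ⊔ L')
        omega
    have hcov : ∀ x ∈ Z, x.rep ∈ L ∨ x.rep ∈ L' := by
      intro x hx
      by_contra hn
      push Not at hn
      have hE : ((outW (outW Z L) L')).card ≤ n := by
        have hd : Disjoint (outW (outW Z L) L') (outW Z H ∪ outW Z P) := Finset.disjoint_left.2 fun y hy hy' => by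
          rcases Finset.mem_union.1 hy' with hy' | hy'
          · exact (Finset.mem_filter.1 (Finset.mem_filter.1 hy).1).2 (hLall y hy')
          · exact (Finset.mem_filter.1 hy).2 (hL'all y hy')
        have h1 : (outW (outW Z L) L' ∪ (outW Z H ∪ outW Z P)).card ≤ Z.card := Finset.card_le_card (Finset.union_subset
          ((Finset.filter_subset _ _).trans (Finset.filter_subset _ _) : outW (outW Z L) L' ⊆ Z)
          (hsub.trans (Finset.filter_subset _ _) : outW Z H ∪ outW Z P ⊆ Z))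
        rw [Finset.card_union_of_disjoint hd, Finset.card_union_of_disjoint hdisj] at h1
        omega
      have hxE : x ∈ outW (outW Z L) L' := Finset.mem_filter.2 ⟨Finset.mem_filter.2 ⟨hx, hn.1⟩, hn.2⟩
      cases n with
      | zero => have := Finset.card_pos.2 ⟨x, hxE⟩; omega
      | succ m =>
        have : m + 2 ≤ (outW (outW Z L) L').card := lower ((h.diff_subspace L).diff_subspace L') ⟨x, hxE⟩
        omega
    have side : ∀ A B : Submodule k (Fin 4 → k), Module.finrank k ↥B = 2 → A ⊓ B = ⊥ →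
        (∀ x ∈ Z, x.rep ∈ A ∨ x.rep ∈ B) → 2 ≤ (inW Z A).card → n + 1 + 2 ≤ (inW Z A).card := by
      intro A B hB hAB hcv h2
      obtain ⟨a, ha, a', ha', hne⟩ := Finset.one_lt_card.1 h2
      have hd : ∀ x ∈ inW Z A, x.rep ∉ B := fun x hx hxB => Projectivization.rep_nonzero x (by
        simpa [hAB] using (Submodule.mem_inf.2 ⟨(Finset.mem_filter.1 hx).2, hxB⟩ : x.rep ∈ A ⊓ B))
      set Q := B ⊔ Submodule.span k {a.rep} with hQ
      have hmem : a' ∈ outW Z Q := Finset.mem_filter.2 ⟨(Finset.mem_filter.1 ha').1, fun hm => by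
        obtain ⟨u, hu, w, hw, e⟩ := Submodule.mem_sup.1 hm
        obtain ⟨c, rfl⟩ := Submodule.mem_span_singleton.1 hw
        have huA : u ∈ A := by
          rw [show u = a'.rep - c • a.rep from eq_sub_of_add_eq e]
          exact A.sub_mem (Finset.mem_filter.1 ha').2 (A.smul_mem c (Finset.mem_filter.1 ha).2)
        have hu0 : u = 0 := by simpa [hAB] using (Submodule.mem_inf.2 ⟨huA, hu⟩ : u ∈ A ⊓ B)
        rw [hu0, zero_add] at e
        exact not_mem_span hne.symm (Submodule.mem_span_singleton.2 ⟨c, e⟩)⟩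
      have h1 : n + 2 ≤ (outW Z Q).card := lower (h.diff_subspace Q) ⟨a', hmem⟩
      have hsubA : outW Z Q ⊆ (inW Z A).erase a := fun x hx => by
        obtain ⟨hxZ, hxQ⟩ := Finset.mem_filter.1 hx
        have hxA : x.rep ∈ A := (hcv x hxZ).resolve_right fun hB' => hxQ (Submodule.mem_sup_left hB')
        exact Finset.mem_erase.2 ⟨fun e => hxQ (e ▸ Submodule.mem_sup_right (Submodule.mem_span_singleton_self _)),
          Finset.mem_filter.2 ⟨hxZ, hxA⟩⟩
      have := Finset.card_le_card hsubA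
      rw [Finset.card_erase_of_mem ha] at this
      omega
    refine Or.inr ⟨L, L', hL, hL'd, hskew, hcov, side L L' hL'd hskew hcov ?_,
      side L' L hL (inf_comm L L' ▸ hskew) (fun x hx => (hcov x hx).symm) ?_⟩
    · exact le_trans (by omega) (Finset.card_le_card (t := inW Z L) fun x hx =>
        Finset.mem_filter.2 ⟨(Finset.mem_filter.1 hx).1, hLall x hx⟩ : (outW Z H).card ≤ _)
    · exact le_trans (by omega) (Finset.card_le_card (t := inW Z L') fun x hx =>
        Finset.mem_filter.2 ⟨(Finset.mem_filter.1 hx).1, hL'all x hx⟩ : (outW Z P).card ≤ _)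

end Groth.Agent.CayBach15
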